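import Mathlib

/-!
Parity of the number of non-degenerate members of a family of alternating forms over the field with
two elements: in the determinant only the fixed-point-free involutions survive, and each of their
terms is a product of half as many entries as the matrix has rows.
-/

set_option autoImplicit false
set_option linter.unusedSectionVars false
set_option linter.style.haveILetI false

namespace Cfsg.Agent.Lib.SFourFree57

open Finset

theorem two_zero_or_one (x : ZMod 2) : x = 0 ∨ x = 1 := by revert x; decide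

theorem two_mul_self (x : ZMod 2) : x * x = x := by revert x; decide

theorem two_add_self (x : ZMod 2) : x + x = 0 := by revert x; decide

theorem sign_two {ι : Type*} [Fintype ι] [DecidableEq ι] (σ : Equiv.Perm ι) :
    ((Equiv.Perm.sign σ : ℤ) : ZMod 2) = 1 := by
  rcases Int.units_eq_one_or (Equiv.Perm.sign σ) with h | h <;> rw [h] <;> rfl

/-- The fixed-point-free involutions. -/
def pairings (ι : Type*) [Fintype ι] [DecidableEq ι] : Finset (Equiv.Perm ι) :=
  univ.filter fun σ => (∀ i, σ (σ i) = i) ∧ ∀ i, σ i ≠ i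

/-- The smaller members of the pairs. -/
def lows {ι : Type*} [Fintype ι] [LinearOrder ι] (σ : Equiv.Perm ι) : Finset ι :=
  univ.filter fun i => i < σ i

variable {ι : Type*} [Fintype ι] [LinearOrder ι]

theorem mem_pairings {σ : Equiv.Perm ι} :
    σ ∈ pairings ι ↔ (∀ i, σ (σ i) = i) ∧ ∀ i, σ i ≠ i := by simp [pairings]

theorem prod_pairing {M : Matrix ι ι (ZMod 2)} (hs : ∀ i j, M i j = M j i) {σ : Equiv.Perm ι}
    (hσ : σ ∈ pairings ι) : ∏ i, M (σ i) i = ∏ i ∈ lows σ, M (σ i) i := by
  rw [mem_pairings] at hσ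
  rw [← Finset.prod_filter_mul_prod_filter_not univ (fun i => i < σ i)]
  have h : ∏ i ∈ univ.filter (fun i => ¬ i < σ i), M (σ i) i = ∏ i ∈ lows σ, M (σ i) i := by
    refine Finset.prod_nbij' (fun i => σ i) (fun i => σ i) ?_ ?_ ?_ ?_ ?_
    · intro i hi
      simp only [lows, mem_filter, mem_univ, true_and] at hi ⊢
      rw [hσ.1]
      exact lt_of_le_of_ne (le_of_not_gt hi) (hσ.2 i)
    · intro i hi
      simp only [lows, mem_filter, mem_univ, true_and] at hi ⊢
      rw [hσ.1]
      exact not_lt_of_ge hi.le
    · intro i _; exact hσ.1 i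
    · intro i _; exact hσ.1 i
    · intro i _
      show M (σ i) i = M (σ (σ i)) (σ i)
      rw [hσ.1]
      exact hs _ _
  rw [h]
  exact two_mul_self _

theorem card_lows {σ : Equiv.Perm ι} (hσ : σ ∈ pairings ι) :
    (lows σ).card = Fintype.card ι / 2 := by
  rw [mem_pairings] at hσ
  have h := Finset.card_filter_add_card_filter_not (s := (univ : Finset ι)) (fun i => i < σ i)
  have h2 : (univ.filter (fun i => ¬ i < σ i)).card = (lows σ).card := by
    refine Finset.card_nbij' (fun i => σ i) (fun i => σ i) ?_ ?_ ?_ ?_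
    · intro i hi
      simp only [lows, coe_filter, mem_univ, true_and, Set.mem_ofPred_eq] at hi ⊢
      rw [hσ.1]
      exact lt_of_le_of_ne (le_of_not_gt hi) (hσ.2 i)
    · intro i hi
      simp only [lows, coe_filter, mem_univ, true_and, Set.mem_ofPred_eq] at hi ⊢
      rw [hσ.1]
      exact not_lt_of_ge hi.le
    · intro i _; exact hσ.1 i
    · intro i _; exact hσ.1 i
  have h' : (lows σ).card + (univ.filter (fun i => ¬ i < σ i)).card = Fintype.card ι := h
  omega

/-- The determinant of an alternating matrix over the field with two elements. -/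
theorem det_eq_sum {M : Matrix ι ι (ZMod 2)} (hs : ∀ i j, M i j = M j i) (hd : ∀ i, M i i = 0) :
    M.det = ∑ σ ∈ pairings ι, ∏ i ∈ lows σ, M (σ i) i := by
  classical
  rw [Matrix.det_apply', ← Finset.sum_congr rfl (fun σ (hσ : σ ∈ pairings ι) => prod_pairing hs hσ),
    ← Finset.sum_add_sum_compl (pairings ι)]
  have h1 : ∀ σ : Equiv.Perm ι, ((Equiv.Perm.sign σ : ℤ) : ZMod 2) * ∏ i, M (σ i) i =
      ∏ i, M (σ i) i := fun σ => by rw [sign_two, one_mul]
  simp only [h1]
  have hinv : ∀ σ : Equiv.Perm ι, ∏ i, M (σ⁻¹ i) i = ∏ i, M (σ i) i := by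
    intro σ
    rw [← Equiv.prod_comp σ (fun i => M (σ⁻¹ i) i)]
    refine Finset.prod_congr rfl fun i _ => ?_
    show M (σ⁻¹ (σ i)) (σ i) = M (σ i) i
    rw [Equiv.Perm.coe_inv, Equiv.symm_apply_apply]
    exact hs _ _
  have hrest : ∑ σ ∈ (pairings ι)ᶜ, ∏ i, M (σ i) i = 0 := by
    refine Finset.sum_involution (fun σ _ => σ⁻¹) ?_ ?_ ?_ ?_
    · intro σ _; rw [hinv]; exact two_add_self _
    · intro σ hσ hne heq
      rw [Finset.mem_compl, mem_pairings] at hσ
      have hsq : ∀ i, σ (σ i) = i := fun i => by
        calc σ (σ i) = σ⁻¹ (σ i) := by rw [heq]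
          _ = i := by rw [Equiv.Perm.coe_inv, Equiv.symm_apply_apply]
      obtain ⟨i, hi⟩ : ∃ i, σ i = i := by
        by_contra hno
        push Not at hno
        exact hσ ⟨hsq, hno⟩
      exact hne (Finset.prod_eq_zero (mem_univ i) (by rw [hi]; exact hd i))
    · intro σ hσ
      rw [Finset.mem_compl, mem_pairings] at hσ ⊢
      rintro ⟨h, h'⟩
      refine hσ ⟨fun i => ?_, fun i hi => h' i ?_⟩
      · have := h (σ (σ i))
        rw [Equiv.Perm.coe_inv, Equiv.symm_apply_apply, Equiv.symm_apply_apply] at this
        exact this.symm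
      · rw [Equiv.Perm.coe_inv, Equiv.symm_apply_eq]; exact hi.symm
    · intro σ _; exact inv_inv σ
  rw [hrest, add_zero]

/-- Half as many linear conditions as rows have a common non-zero solution, so the non-degenerate
members of an affine family of more than that size come in pairs. -/
theorem sum_det_eq_zero {A : Type*} [AddCommGroup A] [Fintype A] (hA : ∀ a : A, a + a = 0)
    (B : Matrix ι ι (ZMod 2)) (L : A →+ Matrix ι ι (ZMod 2))
    (hs : ∀ a i j, (B + L a) i j = (B + L a) j i) (hd : ∀ a i, (B + L a) i i = 0)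
    (hcard : 2 ^ (Fintype.card ι / 2) < Fintype.card A) : ∑ a, (B + L a).det = 0 := by
  classical
  simp only [det_eq_sum (hs _) (hd _)]
  rw [Finset.sum_comm]
  refine Finset.sum_eq_zero fun σ hσ => ?_
  let g : A → (lows σ → ZMod 2) := fun a i => L a (σ i) i
  obtain ⟨a, b, hab, hne⟩ : ∃ a b, g a = g b ∧ a ≠ b := by
    by_contra hno
    push Not at hno
    have := Fintype.card_le_of_injective g hno
    rw [Fintype.card_fun, ZMod.card, Fintype.card_coe, card_lows hσ] at this
    omega
  have hd0 : ∀ i ∈ lows σ, L (a + b) (σ i) i = 0 := by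
    intro i hi
    have h := congrFun hab ⟨i, hi⟩
    rw [map_add, Matrix.add_apply, show L a (σ i) i = L b (σ i) i from h]
    exact two_add_self _
  refine Finset.sum_involution (fun x _ => x + (a + b)) ?_ ?_ ?_ ?_
  · intro x _
    have : ∀ i ∈ lows σ, (B + L (x + (a + b))) (σ i) i = (B + L x) (σ i) i := fun i hi => by
      rw [Matrix.add_apply, Matrix.add_apply, map_add, Matrix.add_apply, hd0 i hi, add_zero]
    rw [Finset.prod_congr rfl this]
    exact two_add_self _
  · intro x _ _ h
    apply hne
    have h' : a + b = 0 := by simpa using h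
    calc a = a + (b + b) := by rw [hA, add_zero]
      _ = b := by rw [← add_assoc, h', zero_add]
  · intro x _; exact mem_univ _
  · intro x _; rw [add_assoc, hA, add_zero]

/-- The number of non-degenerate members is even. -/
theorem even_card_det {A : Type*} [AddCommGroup A] [Fintype A] (hA : ∀ a : A, a + a = 0)
    (B : Matrix ι ι (ZMod 2)) (L : A →+ Matrix ι ι (ZMod 2))
    (hs : ∀ a i j, (B + L a) i j = (B + L a) j i) (hd : ∀ a i, (B + L a) i i = 0)
    (hcard : 2 ^ (Fintype.card ι / 2) < Fintype.card A) :
    Even (univ.filter fun a => (B + L a).det = 1).card := by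
  classical
  have h := sum_det_eq_zero hA B L hs hd hcard
  have h2 : ∑ a, (B + L a).det = ((univ.filter fun a => (B + L a).det = 1).card : ZMod 2) := by
    rw [Finset.natCast_card_filter]
    refine Finset.sum_congr rfl fun a _ => ?_
    rcases two_zero_or_one (B + L a).det with h' | h' <;> simp [h']
  rw [h2] at h
  exact even_iff_two_dvd.2 ((ZMod.natCast_eq_zero_iff _ 2).1 h)

/-- A linear family of alternating forms all of whose non-zero members are non-degenerate has at
most half the dimension of the space. -/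
theorem card_sq_le_of_nondegenerate {A V : Type*} [AddCommGroup A] [AddCommGroup V] [Finite A]
    [Finite V] (hA : ∀ a : A, a + a = 0) (hV : ∀ v : V, v + v = 0)
    (b : A →+ V →+ V →+ ZMod 2) (halt : ∀ a v, b a v v = 0)
    (hnd : ∀ a, a ≠ 0 → ∀ v, v ≠ 0 → ∃ w, b a w v ≠ 0) (hV0 : ∃ v : V, v ≠ 0) :
    Nat.card A ^ 2 ≤ Nat.card V := by
  classical
  haveI := Fintype.ofFinite A
  letI : Module (ZMod 2) V := AddCommGroup.zmodModule (n := 2) fun v => by
    rw [two_nsmul]; exact hV v
  haveI : Module.Finite (ZMod 2) V := Module.Finite.of_finite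
  haveI : Fact (Nat.Prime 2) := ⟨Nat.prime_two⟩
  set d := Module.finrank (ZMod 2) V
  let v : Module.Basis (Fin d) (ZMod 2) V := Module.finBasis (ZMod 2) V
  have hsym : ∀ a x y, b a x y = b a y x := by
    intro a x y
    have h := halt a (x + y)
    simp only [map_add, AddMonoidHom.add_apply, halt, zero_add, add_zero] at h
    rw [← sub_eq_zero, ZModModule.sub_eq_add, add_comm]
    exact h
  let L : A →+ Matrix (Fin d) (Fin d) (ZMod 2) :=
    { toFun := fun a i j => b a (v i) (v j)
      map_zero' := by ext i j; simp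
      map_add' := fun a a' => by ext i j; simp; rfl }
  have hL : ∀ a i j, L a i j = b a (v i) (v j) := fun _ _ _ => rfl
  have hdet : ∀ a, a ≠ 0 → (L a).det ≠ 0 := by
    intro a ha h0
    obtain ⟨c, hc, hMc⟩ := Matrix.exists_mulVec_eq_zero_iff.2 h0
    have hx : ∑ j, c j • v j ≠ 0 := by
      intro h
      exact hc (funext fun j => Fintype.linearIndependent_iff.1 v.linearIndependent c h j)
    obtain ⟨w, hw⟩ := hnd a ha _ hx
    apply hw
    have hi : ∀ i, b a (v i) (∑ j, c j • v j) = 0 := by
      intro i
      have h := congrFun hMc i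
      simp only [Matrix.mulVec, dotProduct, Pi.zero_apply] at h
      rw [map_sum, ← h]
      refine Finset.sum_congr rfl fun j _ => ?_
      rcases two_zero_or_one (c j) with hj | hj <;> simp [hj, hL]
    rw [← v.sum_repr w, map_sum (b a), AddMonoidHom.finsetSum_apply]
    refine Finset.sum_eq_zero fun i _ => ?_
    rcases two_zero_or_one (v.repr w i) with hj | hj <;> simp [hj, hi i]
  have hle : Fintype.card A ≤ 2 ^ (d / 2) := by
    by_contra hgt
    have heven := even_card_det hA 0 L (fun a i j => by simp [hL, hsym a (v i)])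
      (fun a i => by simp [hL, halt]) (by rw [Fintype.card_fin]; omega)
    have hd0 : d ≠ 0 := by
      intro h0
      obtain ⟨u, hu⟩ := hV0
      haveI : Subsingleton V := Module.finrank_zero_iff.1 h0
      exact hu (Subsingleton.elim _ _)
    have hzero : (L 0).det = 0 := by
      haveI : Nonempty (Fin d) := ⟨⟨0, Nat.pos_of_ne_zero hd0⟩⟩
      rw [map_zero]; exact Matrix.det_zero
    have hfil : (univ.filter fun a => ((0 : Matrix (Fin d) (Fin d) (ZMod 2)) + L a).det = 1) =
        univ.erase 0 := by
      ext a
      simp only [zero_add, mem_filter, mem_univ, true_and, mem_erase, and_true]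
      constructor
      · intro h ha
        rw [ha, hzero] at h
        exact zero_ne_one h
      · intro ha; exact (two_zero_or_one _).resolve_left (hdet a ha)
    rw [hfil, card_erase_of_mem (mem_univ _), card_univ] at heven
    obtain ⟨k, hk⟩ := heven
    -- a finite group of exponent two of size above one has even order
    obtain ⟨a, ha⟩ := Fintype.exists_ne_of_one_lt_card (by
        have h1 : 0 < (2:ℕ) ^ (d / 2) := Nat.two_pow_pos _
        exact lt_of_le_of_lt (Nat.succ_le_of_lt h1) (not_le.1 hgt)) (0 : A)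
    have h2 : 2 ∣ Fintype.card A := by
      have : addOrderOf a = 2 := addOrderOf_eq_prime (by rw [two_nsmul, hA]) ha
      rw [← this]; exact addOrderOf_dvd_card
    have h3 : 0 < Fintype.card A := Fintype.card_pos
    omega
  rw [Nat.card_eq_fintype_card, Module.natCard_eq_pow_finrank (K := ZMod 2), Nat.card_zmod]
  calc Fintype.card A ^ 2 ≤ (2 ^ (d / 2)) ^ 2 := Nat.pow_le_pow_left hle 2
    _ = 2 ^ (d / 2 * 2) := (pow_mul 2 _ 2).symm
    _ ≤ 2 ^ d := Nat.pow_le_pow_right (by norm_num) (Nat.div_mul_le_self d 2)

end Cfsg.Agent.Lib.SFourFree57
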